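import Groth.Agent.Lib.AdmBlow2.Dominate
import Groth.Agent.Lib.BlowProj2.Main
import Groth.Agent.Lib.VeryAmple11.Ample
import Groth.Agent.Lib.RelAmple18.Twist
import Groth.Agent.Lib.CubeField.DivSection
import Groth.Agent.Lib.QcOpenIdeal19
import Groth.Prelude.Def_MoreMor

/-!
# An admissible blowing up with an ample family
-/

set_option autoImplicit false
set_option linter.style.haveILetI false
set_option backward.isDefEq.respectTransparency false

universe u

open CategoryTheory CategoryTheory.Limits AlgebraicGeometry TopologicalSpace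

noncomputable section

namespace Groth.Agent.AdmBlow2

open Groth.Agent.RA Groth.Agent.Amp

variable {X : Scheme.{u}}

/-- An affine open is contained in an affine open containing all generic points. -/
theorem exists_affine_ge_genericPoints (hirr : (irreducibleComponents ↥X).Finite) (V : X.Opens)
    (hV : IsAffineOpen V) : ∃ W : X.Opens, IsAffineOpen W ∧ V ≤ W ∧ genericPoints ↥X ⊆ W := by
  classical
  have hfin : (genericPoints ↥X).Finite := genericPoints.finite hirr
  haveI := hfin.to_subtype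
  let O : genericPoints ↥X → X.Opens := fun η =>
    ⟨(⋃ k ∈ {k : genericPoints ↥X | k ≠ η}, closure {k.1})ᶜ,
      ((Set.toFinite _).isClosed_biUnion fun k _ => isClosed_closure).isOpen_compl⟩
  have hmem : ∀ η : genericPoints ↥X, η.1 ∈ O η := by
    intro η h
    obtain ⟨k, hk, hηk⟩ := Set.mem_iUnion₂.1 h
    exact hk (genericPoints.component_injective (Subtype.ext
      (η.2.eq_of_le k.2.1 (closure_minimal (Set.singleton_subset_iff.2 hηk) isClosed_closure)).symm))
  have hcov : ∀ x : X, ∃ k : genericPoints ↥X, x ∈ closure {k.1} := fun x => by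
    refine ⟨genericPoints.ofComponent ⟨irreducibleComponent x, irreducibleComponent_mem_irreducibleComponents x⟩, ?_⟩
    rw [show closure {(genericPoints.ofComponent _).1} = irreducibleComponent x from
      congrArg Subtype.val (genericPoints.component_ofComponent ⟨irreducibleComponent x,
        irreducibleComponent_mem_irreducibleComponents x⟩)]
    exact mem_irreducibleComponent
  have huniq : ∀ (η : genericPoints ↥X) (x : X), x ∈ O η → ∀ k : genericPoints ↥X, x ∈ closure {k.1} → k = η := by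
    intro η x hx k hk
    by_contra hne
    exact hx (Set.mem_biUnion (show k ∈ {k : genericPoints ↥X | k ≠ η} from hne) hk)
  let S := {η : genericPoints ↥X // η.1 ∉ V}
  have hA : ∀ η : S, ∃ A : X.Opens, IsAffineOpen A ∧ η.1.1 ∈ A ∧ A ≤ O η.1 := fun η => by
    obtain ⟨A, h1, h2, h3⟩ := exists_isAffineOpen_mem_and_subset (X := X) (hmem η.1)
    exact ⟨A, h1, h2, h3⟩
  choose A hA1 hA2 hA3 using hA
  refine ⟨V ⊔ ⨆ η, A η, ?_, le_sup_left, fun x hx => ?_⟩
  · refine hV.sup_of_disjoint (IsAffineOpen.iSup_of_disjoint hA1 fun η η' hne => ?_) ?_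
    · rw [Function.onFun, ← Opens.coe_disjoint, Set.disjoint_left]
      intro z hz hz'
      obtain ⟨k, hk⟩ := hcov z
      exact hne (Subtype.ext ((huniq _ z (hA3 η hz) k hk).symm.trans (huniq _ z (hA3 η' hz') k hk)))
    · rw [← Opens.coe_disjoint, Set.disjoint_left]
      intro z hzV hz
      obtain ⟨η, hη⟩ := Opens.mem_iSup.1 hz
      obtain ⟨k, hk⟩ := hcov z
      rw [huniq _ z (hA3 η hη) k hk] at hk
      exact η.2 (by simpa using mem_closure_iff.1 hk V V.2 hzV)
  · by_cases h : x ∈ V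
    · exact Or.inl h
    · exact Or.inr (Opens.mem_iSup.2 ⟨⟨⟨x, hx⟩, h⟩, hA2 ⟨⟨x, hx⟩, h⟩⟩)

/-- A quasi-compact quasi-separated scheme with finitely many components has an admissible blowing up with an
ample family. -/
theorem exists_ampleFamily [CompactSpace ↥X] [QuasiSeparatedSpace ↥X]
    (hirr : (irreducibleComponents ↥X).Finite) :
    ∃ (U : X.Opens) (𝓘 : X.IdealSheafData) (X' : Scheme.{u}) (b : X' ⟶ X),
      IsCompact (U : Set ↥X) ∧ Dense (U : Set ↥X) ∧ BlowUp.IsAdmissibleFor U 𝓘 ∧ BlowUp.IsBlowUp b 𝓘 ∧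
      MoreMor.HasAmpleFamily X' := by
  classical
  choose V0 hV0 hxV0 _ using fun x : X => exists_isAffineOpen_mem_and_subset (X := X) (U := ⊤) (x := x) trivial
  obtain ⟨t, ht⟩ := isCompact_univ.elim_finite_subcover (fun x : X => (V0 x : Set X)) (fun x => (V0 x).2)
    (fun x _ => Set.mem_iUnion.2 ⟨x, hxV0 x⟩)
  choose V hVa hVle hgen using fun i : Fin t.card =>
    exists_affine_ge_genericPoints hirr (V0 (t.equivFin.symm i).1) (hV0 _)
  let U : X.Opens := ⟨⋂ i, (V i : Set X), isOpen_iInter_of_finite fun i => (V i).2⟩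
  have hVcov : ∀ x : X, ∃ i, x ∈ V i := fun x => by
    obtain ⟨y, hy, hxy⟩ := Set.mem_iUnion₂.1 (ht (Set.mem_univ x))
    exact ⟨t.equivFin ⟨y, hy⟩, hVle _ (by rw [Equiv.symm_apply_apply]; exact hxy)⟩
  have hUc : IsCompact (U : Set X) := by
    have key : ∀ s : Finset (Fin t.card), IsCompact (⋂ i ∈ s, (V i : Set X)) := by
      intro s
      induction s using Finset.induction with
      | empty => simpa using isCompact_univ
      | insert a s ha ih =>
        rw [Finset.set_biInter_insert]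
        exact QuasiSeparatedSpace.inter_isCompact _ _ (V a).2 (hVa a).isCompact
          (isOpen_biInter_finset fun i _ => (V i).2) ih
    simpa [U] using key Finset.univ
  have hUd : Dense (U : Set X) := by
    refine Dense.mono (s₁ := genericPoints ↥X) (fun x hx => Set.mem_iInter.2 fun i => hgen i hx) ?_
    rw [dense_iff_closure_eq, genericPoints.closure]
  choose I hI1 hI2 using fun i => QcOpenIdeal19.exists_support_eq_compl X (V i) (hVa i).isCompact
  have hIadm : ∀ i, BlowUp.IsAdmissibleFor U (I i) := fun i => by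
    refine ⟨hI1 i, Set.disjoint_left.2 fun x hx hU => ?_⟩
    rw [hI2 i] at hx
    exact hx (Set.mem_iInter.1 hU i)
  obtain ⟨J, hJ, hK⟩ := exists_prod I hIadm
  let b := BlowUpExist.ChartIdx.blowUpHom J
  have hb : BlowUp.IsBlowUp b J := BlowUpExist.ChartIdx.isBlowUp_blowUpHom
  refine ⟨U, J, _, b, hUc, hUd, hJ, hb, ?_⟩
  haveI : IsProper b := BlowUpExist.isProper hJ.1 hb
  haveI hc : CompactSpace ↥(colimit (BlowUpExist.ChartIdx.diagram J)) := QuasiCompact.compactSpace_of_compactSpace b
  haveI : QuasiSeparatedSpace ↥(colimit (BlowUpExist.ChartIdx.diagram J)) :=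
    quasiSeparatedSpace_of_quasiSeparated b
  refine ⟨hc, fun x => ?_⟩
  obtain ⟨φ, hφ⟩ := BlowProj2.exists_phi hJ.1 hb
  obtain ⟨E, hE⟩ : ∃ E, RelAmple.IsRelAmple b E := ⟨_, VA11.isRelAmple_of_isRelVeryAmple
    (VA11.isRelVeryAmple_of_vamp (M2.isQCoh_idealMod J) φ
      (VA11.vamp_of_forall fun U hU => BlowProj2.va hJ.1 hb φ hφ ⟨U, hU⟩))⟩
  have hEi := RA.isInvertible_of_isRelAmple b hE
  obtain ⟨i, hi⟩ := hVcov (b x)
  obtain ⟨K, -, hJK⟩ := hK i
  have hcart : BlowUp.IsEffCartierIdeal ((I i).comap b) := by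
    have h1 := hb.1
    rw [show J.comap b = (I i * K).comap b from congrArg (fun C => C.comap b) hJK, EffCartier.comap_mul] at h1
    exact EffCartier.isEffCartierIdeal_of_mul_left h1
  obtain ⟨L, hL, -, σ, hσ⟩ := CubeField.exists_inverse_section_of_effCartier hcart
  have hσ' : CohB1.genLocus L σ = b ⁻¹ᵁ V i := by
    apply Opens.ext
    rw [hσ, Scheme.IdealSheafData.support_comap]
    ext z
    simp [hI2 i]
  have hamp : AmpleOn E (CohB1.genLocus L σ) := by rw [hσ']; exact hE.2 ⟨V i, hVa i⟩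
  have hx : x ∈ CohB1.genLocus L σ := hσ'.ge hi
  obtain ⟨m, G', ⟨s', hs'⟩, hxG', hA'⟩ := (isAmple_iff.mp hamp).2.2 ⟨x, hx⟩
  obtain ⟨q, hq⟩ := exists_locus_extend hL (isInvertible_tensorPow hEi (m + 1)) σ
    (s' ≫ (M2.restrictTensorPowIso _ E (m + 1)).symm.hom)
  obtain ⟨w, hw⟩ := hq q le_rfl
  rw [genLocus_comp_iso, hs'] at hw
  let P := CohB1.tensorMod (CohB1.tensorPow E (m + 1)) (CohB1.tensorPow L q)
  refine ⟨P, 1, w ≫ (M2.tensorPowOne P).symm.hom,
    M2.isInvertible_tensor (isInvertible_tensorPow hEi _) (isInvertible_tensorPow hL _), le_rfl, ?_⟩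
  rw [genLocus_comp_iso, hw]
  exact ⟨⟨⟨x, hx⟩, hxG', rfl⟩, hA'.image_of_isOpenImmersion _⟩

end Groth.Agent.AdmBlow2
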