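import Groth.Agent.Lib.HTop26.AlmostBlowUp
import Groth.Agent.Lib.HTop26.BlowUpAway
import Groth.Agent.Lib.BlowUpExist.Proper
import Groth.Agent.Lib.EffCartier.FiniteType
import Groth.Agent.S0590
import Groth.Agent.S8982
import Mathlib.AlgebraicGeometry.AffineTransitionLimit

/-!
# Ideals of finite type on qcqs schemes come from Noetherian schemes; existence of almost blow up squares
-/

set_option autoImplicit false
set_option linter.style.haveILetI false
set_option backward.isDefEq.respectTransparency false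

universe u

open CategoryTheory CategoryTheory.Limits AlgebraicGeometry TopologicalSpace

namespace Groth.Agent.AdmBlow2

section

variable {I : Type u} [Category.{u} I] [IsCofiltered I] {D : I ⥤ Scheme.{u}}
  [∀ {i j} (f : i ⟶ j), IsAffineHom (D.map f)] (c : Cone D) (hc : IsLimit c)

include hc in
/-- A section over the preimage of an affine open of one stage comes from a later stage. -/
theorem exists_lift (i : I) (U : (D.obj i).Opens) (hU : IsAffineOpen U) (s : Γ(c.pt, c.π.app i ⁻¹ᵁ U)) :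
    ∃ (j : I) (W : (D.obj j).Opens) (_ : IsAffineOpen W) (h : c.π.app i ⁻¹ᵁ U ≤ c.π.app j ⁻¹ᵁ W)
      (_ : c.π.app j ⁻¹ᵁ W ≤ c.π.app i ⁻¹ᵁ U) (t : Γ(D.obj j, W)),
      (c.π.app j).appLE W (c.π.app i ⁻¹ᵁ U) h t = s := by
  have (j : Over i) : IsAffine ((opensDiagram D i U).obj j) := hU.preimage (D.map _)
  obtain ⟨j, t, hj⟩ := exists_appTop_π_eq_of_isAffine_of_isLimit _ _
    (isLimitOpensCone D c hc i U) ((c.π.app i ⁻¹ᵁ U).topIso.inv s)
  have h : c.π.app j.left ⁻¹ᵁ D.map j.hom ⁻¹ᵁ U = c.π.app i ⁻¹ᵁ U := congr($(c.w j.hom) ⁻¹ᵁ U)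
  refine ⟨j.left, D.map j.hom ⁻¹ᵁ U, hU.preimage _, h.ge, h.le, (D.map j.hom ⁻¹ᵁ U).topIso.hom t, ?_⟩
  have hs := congrArg (c.π.app i ⁻¹ᵁ U).topIso.hom hj
  rw [show (c.π.app i ⁻¹ᵁ U).topIso.hom ((c.π.app i ⁻¹ᵁ U).topIso.inv s) = s from
    Iso.inv_hom_id_apply (c.π.app i ⁻¹ᵁ U).topIso s] at hs
  rw [← hs]
  simp [← ConcreteCategory.comp_apply, Scheme.Hom.app_eq_appLE, Scheme.Hom.resLE_appLE]
  exact (ConcreteCategory.congr_hom (Scheme.Hom.appLE_map (c.π.app j.left) _ _) t).symm

include hc in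
/-- An ideal of finite type on the limit is generated by the ideal it induces on some stage. -/
theorem exists_comap_map_eq [∀ i, CompactSpace (D.obj i)] (J : c.pt.IdealSheafData)
    (hJ : BlowUp.IsFiniteTypeIdeal J) :
    ∃ k, (J.map (c.π.app k)).comap (c.π.app k) = J := by
  classical
  haveI : ∀ j, IsAffineHom (c.π.app j) := fun j => isAffineHom_π_app D c hc j
  let K : I → c.pt.IdealSheafData := fun j => (J.map (c.π.app j)).comap (c.π.app j)
  have hmono : ∀ {j k : I} (_ : k ⟶ j), K j ≤ K k := by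
    intro j k f
    show (J.map (c.π.app j)).comap (c.π.app j) ≤ _
    rw [← c.w f, Scheme.IdealSheafData.map_comp, Scheme.IdealSheafData.comap_comp]
    exact Scheme.IdealSheafData.comap_mono _ (Scheme.IdealSheafData.comap_map_le _ _)
  have i₀ := IsCofiltered.nonempty (C := I).some
  choose V hV hxV _ using fun x : D.obj i₀ => exists_isAffineOpen_mem_and_subset (X := D.obj i₀) (U := ⊤) (x := x) trivial
  obtain ⟨t, ht⟩ := isCompact_univ.elim_finite_subcover (fun x : D.obj i₀ => (V x : Set (D.obj i₀)))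
    (fun x => (V x).2) (fun x _ => Set.mem_iUnion.2 ⟨x, hxV x⟩)
  let P : D.obj i₀ → c.pt.affineOpens := fun x => ⟨c.π.app i₀ ⁻¹ᵁ V x, (hV x).preimage _⟩
  choose g hg using fun x => hJ (P x)
  have hone : ∀ x, ∀ s ∈ g x, ∃ j, s ∈ (K j).ideal (P x) := by
    intro x s hs
    obtain ⟨j, W, hW, h, h', r, hr⟩ := exists_lift c hc i₀ (V x) (hV x) s
    refine ⟨j, ?_⟩
    show s ∈ ((J.map (c.π.app j)).comap (c.π.app j)).ideal (P x)
    rw [EffCartier.comap_ideal _ (c.π.app j) ⟨W, hW⟩ (P x) h, ← hr]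
    refine Ideal.mem_map_of_mem _ ?_
    rw [Scheme.IdealSheafData.ideal_map_of_isAffineHom, Ideal.mem_comap]
    have hs' : s ∈ J.ideal (P x) := by rw [← hg x]; exact Ideal.subset_span hs
    have h3 := J.map_ideal (U := ⟨_, hW.preimage (c.π.app j)⟩) (V := P x) h'
    rw [← h3]
    have e : (c.π.app j).app W r = c.pt.presheaf.map (homOfLE h').op s := by
      rw [← hr]
      change _ = ((c.π.app j).appLE W _ h ≫ c.pt.presheaf.map (homOfLE h').op) r
      erw [Scheme.Hom.appLE_map]
      rw [Scheme.Hom.app_eq_appLE]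
      rfl
    show (c.π.app j).app W r ∈ _
    rw [e]
    exact Ideal.mem_map_of_mem _ hs'
  choose jof hjof using hone
  let F : Finset I := insert i₀ (t.biUnion fun x => (g x).attach.image fun s : {s // s ∈ g x} => jof x s.1 s.2)
  obtain ⟨k, hk⟩ := IsCofiltered.inf_objs_exists F
  refine ⟨k, le_antisymm (Scheme.IdealSheafData.comap_map_le _ _) ?_⟩
  refine Scheme.IdealSheafData.le_of_iSup_eq_top (fun x : t => P x.1) ?_ fun x => ?_
  · refine top_unique fun y _ => ?_
    obtain ⟨x, hx, hyx⟩ := Set.mem_iUnion₂.1 (ht (Set.mem_univ (c.π.app i₀ y)))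
    exact Opens.mem_iSup.2 ⟨⟨x, hx⟩, hyx⟩
  · rw [← hg x.1, Ideal.span_le]
    intro s hs
    have hmem : jof x.1 s hs ∈ F :=
      Finset.mem_insert_of_mem (Finset.mem_biUnion.2 ⟨x.1, x.2, Finset.mem_image.2 ⟨⟨s, hs⟩, Finset.mem_attach _ _, rfl⟩⟩)
    exact hmono (hk hmem).some (P x.1) (hjof x.1 s hs)

end

/-- An ideal of finite type on a qcqs scheme is pulled back from a scheme locally of finite type over the integers. -/
theorem exists_noetherian_model {X : Scheme.{u}} [CompactSpace X] [QuasiSeparatedSpace X]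
    (J : X.IdealSheafData) (hJ : BlowUp.IsFiniteTypeIdeal J) :
    ∃ (Y : Scheme.{u}) (_ : IsLocallyNoetherian Y) (_ : CompactSpace Y) (g : X ⟶ Y) (J₀ : Y.IdealSheafData),
      J₀.comap g = J := by
  obtain ⟨I, _, _, _, D, c, hc, haff, hD, ⟨e⟩⟩ := S0590.result X
  haveI : ∀ {i j : Iᵒᵖ} (f : i ⟶ j), IsAffineHom (D.map f) := fun f => haff _ _ f
  haveI : IsCofiltered Iᵒᵖ := inferInstance
  haveI : ∀ i, CompactSpace (D.obj i) := fun i => (hD i).1
  haveI : IsNoetherianRing (ULift.{u} ℤ) := isNoetherianRing_of_ringEquiv ℤ ULift.ringEquiv.symm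
  obtain ⟨k, hk⟩ := exists_comap_map_eq c hc (J.comap e.hom) (EffCartier.isFiniteTypeIdeal_comap hJ _)
  haveI := (hD k).2
  haveI : IsLocallyNoetherian (D.obj k) :=
    LocallyOfFiniteType.isLocallyNoetherian (Limits.IsTerminal.from specULiftZIsTerminal (D.obj k))
  refine ⟨D.obj k, inferInstance, inferInstance, e.inv ≫ c.π.app k, (J.comap e.hom).map (c.π.app k), ?_⟩
  rw [Scheme.IdealSheafData.comap_comp, hk, ← Scheme.IdealSheafData.comap_comp, e.inv_hom_id,
    Scheme.IdealSheafData.comap_id]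

/-- Every closed subscheme of finite presentation of a qcqs scheme is the centre of an almost blow up square. -/
theorem exists_almostBlowUpSquare {Z X : Scheme.{u}} [CompactSpace X] [QuasiSeparatedSpace X] (i : Z ⟶ X)
    [IsClosedImmersion i] [LocallyOfFinitePresentation i] :
    ∃ (E X' : Scheme.{u}) (e : E ⟶ X') (π : E ⟶ Z) (b : X' ⟶ X), HTop.IsAlmostBlowUpSquare e π b i := by
  obtain ⟨Y, _, _, g, J, hJ⟩ := exists_noetherian_model i.ker (HTop26.isFiniteTypeIdeal_ker i)
  have hft : BlowUp.IsFiniteTypeIdeal J := fun W => @IsNoetherian.noetherian _ _ _ _ _ (IsLocallyNoetherian.component_noetherian W) _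
  let b₀ := BlowUpExist.ChartIdx.blowUpHom J
  have hb : BlowUp.IsBlowUp b₀ J := BlowUpExist.ChartIdx.isBlowUp_blowUpHom
  haveI : IsProper b₀ := BlowUpExist.isProper hft hb
  haveI : LocallyOfFinitePresentation b₀ := inferInstance
  haveI : LocallyOfFinitePresentation J.subschemeι := inferInstance
  have hloc : HTop.IsLocPrincipal (J.subschemeι.ker.comap b₀) := by
    rw [Scheme.IdealSheafData.ker_subschemeι]
    intro x
    obtain ⟨U, hxU, f, -, hf⟩ := hb.1 x
    exact ⟨U, hxU, f, hf⟩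
  have hsq : HTop.IsAlmostBlowUpSquare (pullback.fst b₀ J.subschemeι) (pullback.snd b₀ J.subschemeι) b₀ J.subschemeι := by
    refine ⟨inferInstance, inferInstance, IsPullback.of_hasPullback _ _, hloc, inferInstance, inferInstance, ?_⟩
    rw [HTop26.isBlowUp_supportedOn_iff b₀ J.subschemeι.ker hloc, Scheme.IdealSheafData.ker_subschemeι]
    exact hb.2
  haveI : IsClosedImmersion i := inferInstance
  have hle : J.subschemeι.ker ≤ (i ≫ g).ker := by
    rw [Scheme.IdealSheafData.ker_subschemeι, ← Scheme.IdealSheafData.map_ker,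
      Scheme.IdealSheafData.le_map_iff_comap_le, hJ]
  have hZ : IsPullback (IsClosedImmersion.lift J.subschemeι (i ≫ g) hle) i J.subschemeι g :=
    (isPullback_of_isClosedImmersion i J.subschemeι _ g (IsClosedImmersion.lift_fac _ _ _).symm
      (by rw [Scheme.IdealSheafData.ker_subschemeι, hJ])).flip
  let fst' := pullback.fst b₀ g
  let b₁ := pullback.snd b₀ g
  have hX : IsPullback fst' b₁ b₀ g := IsPullback.of_hasPullback b₀ g
  let e₁ := pullback.snd (pullback.fst b₀ J.subschemeι) fst'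
  let gE := pullback.fst (pullback.fst b₀ J.subschemeι) fst'
  have hE : IsPullback gE e₁ (pullback.fst b₀ J.subschemeι) fst' := IsPullback.of_hasPullback _ _
  refine ⟨_, _, e₁, hZ.lift (gE ≫ pullback.snd b₀ J.subschemeι) (e₁ ≫ b₁) ?_, b₁,
    S8982.result hsq g hX hZ hE (hZ.lift_snd _ _ _)⟩
  rw [Category.assoc, ← pullback.condition, ← Category.assoc, hE.w, Category.assoc, hX.w, Category.assoc]

end Groth.Agent.AdmBlow2
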