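import Groth.Agent.Lib.BlowUp26.Basic
import Groth.Agent.Lib.BlowUpExist.Glue
import Groth.Agent.Lib.EffCartier.FiniteType
import Groth.Prelude.Def_BlowUp2

/-!
# Finitely many admissible blowing ups are dominated by one
-/

set_option autoImplicit false
set_option linter.style.haveILetI false
set_option backward.isDefEq.respectTransparency false

universe u

open CategoryTheory CategoryTheory.Limits AlgebraicGeometry

noncomputable section

namespace Groth.Agent.AdmBlow2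

variable {X Y Z : Scheme.{u}} {U : X.Opens}

theorem isAdmissibleFor_top : BlowUp.IsAdmissibleFor U (⊤ : X.IdealSheafData) := by
  refine ⟨fun V => ⟨{1}, by simp⟩, ?_⟩
  rw [Scheme.IdealSheafData.support_top]
  simp

theorem IsAdmissibleFor.mul {I J : X.IdealSheafData} (hI : BlowUp.IsAdmissibleFor U I)
    (hJ : BlowUp.IsAdmissibleFor U J) : BlowUp.IsAdmissibleFor U (I * J) := by
  refine ⟨fun V => ?_, ?_⟩
  · rw [Scheme.IdealSheafData.ideal_mul, Pi.mul_apply]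
    exact (hI.1 V).mul (hJ.1 V)
  · rw [Scheme.IdealSheafData.support_mul]
    simpa using ⟨hI.2, hJ.2⟩

theorem isAdmissibleFor_comap {J : X.IdealSheafData} (hJ : BlowUp.IsAdmissibleFor U J) (f : Y ⟶ X) :
    BlowUp.IsAdmissibleFor (f ⁻¹ᵁ U) (J.comap f) := by
  refine ⟨EffCartier.isFiniteTypeIdeal_comap hJ.1 f, Set.disjoint_left.2 fun y hy hU => ?_⟩
  rw [Scheme.IdealSheafData.support_comap] at hy
  exact Set.disjoint_left.1 hJ.2 hy hU

/-- A product of admissible ideals, divisible by each of them. -/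
theorem exists_prod : ∀ {n : ℕ} (I : Fin n → X.IdealSheafData), (∀ i, BlowUp.IsAdmissibleFor U (I i)) →
    ∃ J : X.IdealSheafData, BlowUp.IsAdmissibleFor U J ∧
      ∀ i, ∃ K : X.IdealSheafData, BlowUp.IsAdmissibleFor U K ∧ J = I i * K := by
  intro n
  induction n with
  | zero => exact fun I _ => ⟨⊤, isAdmissibleFor_top, fun i => i.elim0⟩
  | succ n ih =>
    intro I hI
    obtain ⟨J, hJ, hK⟩ := ih (fun i => I i.succ) fun i => hI i.succ
    refine ⟨I 0 * J, IsAdmissibleFor.mul (hI 0) hJ, Fin.cases ⟨J, hJ, rfl⟩ fun i => ?_⟩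
    obtain ⟨K, hK', rfl⟩ := hK i
    refine ⟨I 0 * K, IsAdmissibleFor.mul (hI 0) hK', ?_⟩
    ext V : 2
    simp only [Scheme.IdealSheafData.ideal_mul, Pi.mul_apply]
    exact mul_left_comm _ _ _

/-- A blowing up in a product factors as a blowing up over the blowing up in one factor. -/
theorem exists_factor {I K : X.IdealSheafData} {b : Y ⟶ X} (hb : BlowUp.IsBlowUp b I) {c : Z ⟶ X}
    (hc : BlowUp.IsBlowUp c (I * K)) :
    ∃ g : Z ⟶ Y, g ≫ b = c ∧ BlowUp.IsBlowUp g (K.comap b) := by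
  let g₀ := BlowUpExist.ChartIdx.blowUpHom (K.comap b)
  have h₀ : BlowUp.IsBlowUp g₀ (K.comap b) := BlowUpExist.ChartIdx.isBlowUp_blowUpHom
  have h := BlowUp26.isBlowUp_comp_mul hb h₀
  obtain ⟨e, he, -⟩ := h.2 Z c hc.1
  obtain ⟨e', he', -⟩ := hc.2 _ _ h.1
  have he1 : e ≫ e' = 𝟙 Z := by
    obtain ⟨_, -, hu⟩ := hc.2 Z c hc.1
    exact (hu _ (by show (e ≫ e') ≫ c = c; rw [Category.assoc, he', he])).trans
      (hu _ (Category.id_comp c)).symm
  have he2 : e' ≫ e = 𝟙 _ := by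
    obtain ⟨_, -, hu⟩ := h.2 _ (g₀ ≫ b) h.1
    exact (hu _ (by show (e' ≫ e) ≫ g₀ ≫ b = g₀ ≫ b; rw [Category.assoc, he, he'])).trans
      (hu _ (Category.id_comp _)).symm
  refine ⟨e ≫ g₀, by rw [Category.assoc, he], ?_, fun W f hf => ?_⟩
  · haveI : IsIso e := ⟨e', he1, he2⟩
    rw [Scheme.IdealSheafData.comap_comp]
    exact BlowUp26.isEffCartierIdeal_comap_flat h₀.1 e
  · obtain ⟨k, hk, hku⟩ := h₀.2 W f hf
    refine ⟨k ≫ e', ?_, fun k' hk' => ?_⟩
    · show (k ≫ e') ≫ e ≫ g₀ = f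
      rw [Category.assoc, reassoc_of% he2]; exact hk
    · rw [← hku (k' ≫ e) (by show (k' ≫ e) ≫ g₀ = f; rw [Category.assoc]; exact hk'), Category.assoc, he1,
        Category.comp_id]

theorem dominate {n : ℕ} (Xi : Fin n → Scheme.{u}) (b : ∀ i, Xi i ⟶ X)
    (I : Fin n → X.IdealSheafData) (hb : ∀ i, BlowUp.IsBlowUp (b i) (I i))
    (ha : ∀ i, BlowUp.IsAdmissibleFor U (I i)) :
    ∃ (J : X.IdealSheafData) (X' : Scheme.{u}) (c : X' ⟶ X), BlowUp.IsBlowUp c J ∧ BlowUp.IsAdmissibleFor U J ∧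
      ∀ i, ∃ (g : X' ⟶ Xi i) (K : (Xi i).IdealSheafData), g ≫ b i = c ∧ BlowUp.IsBlowUp g K ∧
        BlowUp.IsAdmissibleFor ((b i) ⁻¹ᵁ U) K := by
  obtain ⟨J, hJ, hK⟩ := exists_prod I ha
  have hc : BlowUp.IsBlowUp (BlowUpExist.ChartIdx.blowUpHom J) J := BlowUpExist.ChartIdx.isBlowUp_blowUpHom
  refine ⟨J, _, _, hc, hJ, fun i => ?_⟩
  obtain ⟨K, hK, hJK⟩ := hK i
  have hc' : BlowUp.IsBlowUp (BlowUpExist.ChartIdx.blowUpHom J) (I i * K) := hJK ▸ hc
  obtain ⟨g, hg, hg'⟩ := exists_factor (hb i) hc'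
  exact ⟨g, _, hg, hg', isAdmissibleFor_comap hK (b i)⟩

end Groth.Agent.AdmBlow2
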