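import Groth.Agent.Lib.HTop26.AlmostBlowUp
import Groth.Agent.Lib.LimH13.IdealSys
import Groth.Agent.Lib.LimH13.Struct
import Groth.Agent.Lib.SchBasic.Basic
import Groth.Agent.S8983
import Mathlib.CategoryTheory.Limits.Constructions.Over.Connected

/-!
# Two almost blow up squares with the same centre are dominated by a third
-/

set_option autoImplicit false
set_option linter.style.haveILetI false
set_option backward.isDefEq.respectTransparency false

universe u

open CategoryTheory CategoryTheory.Limits AlgebraicGeometry TopologicalSpace Opposite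

namespace Groth.Agent.AdmBlow2

theorem exists_dominating_square {Z X E₁ X₁ E₂ X₂ : Scheme.{u}} [CompactSpace X] [QuasiSeparatedSpace X] (i : Z ⟶ X)
    {e₁ : E₁ ⟶ X₁} {π₁ : E₁ ⟶ Z} {b₁ : X₁ ⟶ X} (h₁ : HTop.IsAlmostBlowUpSquare e₁ π₁ b₁ i)
    {e₂ : E₂ ⟶ X₂} {π₂ : E₂ ⟶ Z} {b₂ : X₂ ⟶ X} (h₂ : HTop.IsAlmostBlowUpSquare e₂ π₂ b₂ i) :
    ∃ (E X' : Scheme.{u}) (e : E ⟶ X') (π : E ⟶ Z) (b : X' ⟶ X) (j₁ : X' ⟶ X₁) (j₂ : X' ⟶ X₂),
      HTop.IsAlmostBlowUpSquare e π b i ∧ IsClosedImmersion j₁ ∧ IsClosedImmersion j₂ ∧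
      j₁ ≫ b₁ = b ∧ j₂ ≫ b₂ = b := by
  haveI := h₁.isProper
  haveI := h₁.finitePresentation
  haveI := h₂.isProper
  haveI := h₂.finitePresentation
  let ι₁ := (HTop.supportedOn (i.ker.comap b₁)).subschemeι
  let ι₂ := (HTop.supportedOn (i.ker.comap b₂)).subschemeι
  obtain ⟨l, hl, -⟩ := h₂.isBlowUp.2 _ (ι₁ ≫ b₁) h₁.isBlowUp.1
  obtain ⟨l', hl', -⟩ := h₁.isBlowUp.2 _ (ι₂ ≫ b₂) h₂.isBlowUp.1
  have hll : l ≫ l' = 𝟙 _ := by
    obtain ⟨_, -, hu⟩ := h₁.isBlowUp.2 _ (ι₁ ≫ b₁) h₁.isBlowUp.1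
    exact (hu _ (by show (l ≫ l') ≫ ι₁ ≫ b₁ = _; rw [Category.assoc, hl', hl])).trans (hu _ (Category.id_comp _)).symm
  have hll' : l' ≫ l = 𝟙 _ := by
    obtain ⟨_, -, hu⟩ := h₂.isBlowUp.2 _ (ι₂ ≫ b₂) h₂.isBlowUp.1
    exact (hu _ (by show (l' ≫ l) ≫ ι₂ ≫ b₂ = _; rw [Category.assoc, hl, hl'])).trans (hu _ (Category.id_comp _)).symm
  haveI : IsIso l := ⟨l', hll, hll'⟩
  haveI : IsClosedImmersion (l ≫ ι₂) := inferInstance
  let P := pullback b₁ b₂
  let j : (HTop.supportedOn (i.ker.comap b₁)).subscheme ⟶ P :=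
    pullback.lift ι₁ (l ≫ ι₂) (by rw [Category.assoc]; exact hl.symm)
  have hj1 : j ≫ pullback.fst b₁ b₂ = ι₁ := pullback.lift_fst _ _ _
  have hj2 : j ≫ pullback.snd b₁ b₂ = l ≫ ι₂ := pullback.lift_snd _ _ _
  haveI : IsClosedImmersion j := by
    haveI : IsClosedImmersion (j ≫ pullback.fst b₁ b₂) := by rw [hj1]; infer_instance
    exact IsClosedImmersion.of_comp j (pullback.fst b₁ b₂)
  haveI : CompactSpace X₁ := QuasiCompact.compactSpace_of_compactSpace b₁
  haveI : CompactSpace X₂ := QuasiCompact.compactSpace_of_compactSpace b₂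
  haveI : QuasiSeparatedSpace X₁ := quasiSeparatedSpace_of_quasiSeparated b₁
  haveI : QuasiSeparatedSpace X₂ := quasiSeparatedSpace_of_quasiSeparated b₂
  haveI : CompactSpace P := QuasiCompact.compactSpace_of_compactSpace (pullback.fst b₁ b₂)
  haveI : QuasiSeparatedSpace P := quasiSeparatedSpace_of_quasiSeparated (pullback.fst b₁ b₂)
  let I := (LimH13.FGIdx j.ker)ᵒᵖ
  haveI : IsDirected (LimH13.FGIdx j.ker) (fun a b => a ≤ b) := LimH13.isDirected_fgIdx _
  haveI : IsCofiltered I := inferInstance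
  haveI : IsConnected I := IsCofiltered.isConnected I
  let F := LimH13.fgDiag j.ker
  let D : I ⥤ Scheme.{u} := F ⋙ Over.forget P
  let c : Cone D := (Over.forget P).mapCone (LimH13.fgCone j)
  have hc : IsLimit c := isLimitOfPreserves (Over.forget P) (LimH13.isLimitFGCone j)
  haveI : ∀ a b (h : a ⟶ b), IsClosedImmersion (D.map h) := fun a b h => LimH13.isClosedImmersion_fgDiag_map _ h
  haveI hcl : ∀ a, IsClosedImmersion ((F.obj a).hom) := fun a => (LimH13.fgDiag_props _ a).1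
  haveI : ∀ a, CompactSpace (D.obj a) := fun a => QuasiCompact.compactSpace_of_compactSpace (F.obj a).hom
  haveI : ∀ a, QuasiSeparatedSpace (D.obj a) := fun a => quasiSeparatedSpace_of_quasiSeparated (F.obj a).hom
  let t₁ : D ⟶ (Functor.const I).obj X₁ :=
    { app := fun a => (F.obj a).hom ≫ pullback.fst b₁ b₂
      naturality := fun a b h => by
        show (F.map h).left ≫ (F.obj b).hom ≫ pullback.fst b₁ b₂ = ((F.obj a).hom ≫ pullback.fst b₁ b₂) ≫ 𝟙 X₁
        rw [← Category.assoc, Over.w (F.map h), Category.comp_id] }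
  let t₂ : D ⟶ (Functor.const I).obj X₂ :=
    { app := fun a => (F.obj a).hom ≫ pullback.snd b₁ b₂
      naturality := fun a b h => by
        show (F.map h).left ≫ (F.obj b).hom ≫ pullback.snd b₁ b₂ = ((F.obj a).hom ≫ pullback.snd b₁ b₂) ≫ 𝟙 X₂
        rw [← Category.assoc, Over.w (F.map h), Category.comp_id] }
  haveI : ∀ a, LocallyOfFiniteType (t₁.app a) := fun a =>
    inferInstanceAs (LocallyOfFiniteType ((F.obj a).hom ≫ pullback.fst b₁ b₂))
  haveI : ∀ a, LocallyOfFiniteType (t₂.app a) := fun a =>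
    inferInstanceAs (LocallyOfFiniteType ((F.obj a).hom ≫ pullback.snd b₁ b₂))
  obtain ⟨i₀⟩ := IsCofiltered.nonempty (C := I)
  have hπ : ∀ a, c.π.app a ≫ (F.obj a).hom = j := fun a => Over.w ((LimH13.fgCone j).π.app a)
  haveI : IsClosedImmersion (c.π.app i₀ ≫ t₁.app i₀) := by
    show IsClosedImmersion (c.π.app i₀ ≫ (F.obj i₀).hom ≫ pullback.fst b₁ b₂)
    rw [← Category.assoc, hπ, hj1]
    infer_instance
  haveI : IsClosedImmersion (c.π.app i₀ ≫ t₂.app i₀) := by
    show IsClosedImmersion (c.π.app i₀ ≫ (F.obj i₀).hom ≫ pullback.snd b₁ b₂)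
    rw [← Category.assoc, hπ, hj2]
    infer_instance
  obtain ⟨k₁, hk₁⟩ := LimH13.exists_isClosedImmersion_structureMap hc (t := t₁) i₀
  obtain ⟨k₂, hk₂⟩ := LimH13.exists_isClosedImmersion_structureMap hc (t := t₂) i₀
  let k := IsCofiltered.min k₁ k₂
  have hk1 : IsClosedImmersion ((F.obj k).hom ≫ pullback.fst b₁ b₂) := by
    have e : D.map (IsCofiltered.minToLeft k₁ k₂) ≫ t₁.app k₁ = t₁.app k :=
      (t₁.naturality (IsCofiltered.minToLeft k₁ k₂)).trans (Category.comp_id _)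
    show IsClosedImmersion (t₁.app k)
    rw [← e]
    infer_instance
  have hk2 : IsClosedImmersion ((F.obj k).hom ≫ pullback.snd b₁ b₂) := by
    have e : D.map (IsCofiltered.minToRight k₁ k₂) ≫ t₂.app k₂ = t₂.app k :=
      (t₂.naturality (IsCofiltered.minToRight k₁ k₂)).trans (Category.comp_id _)
    show IsClosedImmersion (t₂.app k)
    rw [← e]
    infer_instance
  let w := (F.obj k).hom ≫ pullback.fst b₁ b₂
  haveI : IsClosedImmersion w := hk1
  haveI : LocallyOfFinitePresentation ((F.obj k).hom) := (LimH13.fgDiag_props _ k).2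
  haveI : LocallyOfFinitePresentation (pullback.fst b₁ b₂) := MorphismProperty.pullback_fst _ _ inferInstance
  haveI : LocallyOfFinitePresentation w := inferInstance
  have hle : w.ker ≤ HTop.supportedOn (i.ker.comap b₁) := by
    refine (Scheme.Hom.le_ker_comp (c.π.app k) w).trans ?_
    rw [show c.π.app k ≫ w = ι₁ by rw [show w = (F.obj k).hom ≫ pullback.fst b₁ b₂ from rfl, ← Category.assoc, hπ, hj1],
      Scheme.IdealSheafData.ker_subschemeι]
  have hEW : IsPullback (pullback.fst e₁ w) (pullback.snd e₁ w) e₁ w := IsPullback.of_hasPullback _ _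
  refine ⟨_, _, _, _, w ≫ b₁, w, (F.obj k).hom ≫ pullback.snd b₁ b₂,
    (S8983.result h₁ w hEW).mp hle, hk1, hk2, rfl, ?_⟩
  rw [show w = (F.obj k).hom ≫ pullback.fst b₁ b₂ from rfl, Category.assoc, Category.assoc, pullback.condition]

end Groth.Agent.AdmBlow2
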