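import Groth.Agent.Lib.VeryAmple11.IdealAmple
import Groth.Agent.Lib.EffCartier.FiniteType
import Groth.Agent.Lib.EffCartier.Comap
import Groth.Agent.Lib.BlowUpExist.Proper
import Groth.Prelude.Def_BlowUp2

/-!
# Extension of admissible ideals from a quasi-compact open
-/

set_option autoImplicit false
set_option linter.style.haveILetI false
set_option backward.isDefEq.respectTransparency false

universe u

open CategoryTheory CategoryTheory.Limits AlgebraicGeometry TopologicalSpace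

noncomputable section

namespace Groth.Agent.AdmBlow2

variable {X : Scheme.{u}}

theorem comap_map_ι (V : X.Opens) [QuasiCompact V.ι] (I : (V : Scheme.{u}).IdealSheafData) :
    (I.map V.ι).comap V.ι = I := by
  refine le_antisymm (Scheme.IdealSheafData.comap_map_le V.ι (I := I)) fun W => ?_
  rw [Scheme.IdealSheafData.ideal_comap_of_isOpenImmersion,
    Scheme.IdealSheafData.ideal_map I V.ι ⟨_, W.2.image_of_isOpenImmersion V.ι⟩
      ((Scheme.Hom.preimage_image_eq V.ι W.1).symm ▸ W.2), Ideal.comap_comap]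
  intro z hz
  have key : ∀ (W' : (V : Scheme.{u}).Opens) (hW' : IsAffineOpen W') (e : W' = W.1),
      (V : Scheme.{u}).presheaf.map (eqToHom e).op z ∈ I.ideal ⟨W', hW'⟩ := by
    rintro W' hW' rfl
    rw [eqToHom_refl, op_id, CategoryTheory.Functor.map_id]
    exact hz
  rw [Ideal.mem_comap, ← CommRingCat.hom_comp, Scheme.Hom.appIso_inv_app]
  exact key _ _ _

/-- An admissible ideal on a quasi-compact open extends. -/
theorem exists_extension [CompactSpace X] [QuasiSeparatedSpace X] (U V : X.Opens) (hU : IsCompact (U : Set X))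
    (hV : IsCompact (V : Set X)) (I : (V : Scheme.{u}).IdealSheafData)
    (hI : BlowUp.IsAdmissibleFor (V.ι ⁻¹ᵁ U) I) :
    ∃ J : X.IdealSheafData, BlowUp.IsAdmissibleFor U J ∧ J.comap V.ι = I := by
  classical
  haveI : CompactSpace (V : Scheme.{u}) := isCompact_iff_compactSpace.1 hV
  haveI : QuasiCompact V.ι := quasiCompact_of_compactSpace V.ι
  let J₀ := I.map V.ι
  have hJ₀U : ∀ x ∈ U, x ∉ J₀.support := fun x hxU hx => by
    rw [Scheme.IdealSheafData.support_map] at hx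
    obtain ⟨_, hyU, y, hy, rfl⟩ := mem_closure_iff.1 hx _ U.2 hxU
    exact Set.disjoint_left.1 hI.2 hy hyU
  -- affine covers
  choose A hA hxA hAU using fun x : U => exists_isAffineOpen_mem_and_subset (U := U) (x := x.1) x.2
  choose B hB hxB hBV using fun x : V => exists_isAffineOpen_mem_and_subset (U := V) (x := x.1) x.2
  obtain ⟨SA, hSA⟩ := hU.elim_finite_subcover (fun x : U => (A x : Set X)) (fun x => (A x).2)
    fun x hx => Set.mem_iUnion.2 ⟨⟨x, hx⟩, hxA ⟨x, hx⟩⟩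
  obtain ⟨SB, hSB⟩ := hV.elim_finite_subcover (fun x : V => (B x : Set X)) (fun x => (B x).2)
    fun x hx => Set.mem_iUnion.2 ⟨⟨x, hx⟩, hxB ⟨x, hx⟩⟩
  have hone : ∀ x : U, (1 : Γ(X, A x)) ∈ J₀.ideal ⟨A x, hA x⟩ := fun x => by
    have htop : J₀.ideal ⟨A x, hA x⟩ = ⊤ := by
      by_contra hne
      obtain ⟨m, hm, hle⟩ := Ideal.exists_le_maximal _ hne
      let p : PrimeSpectrum Γ(X, A x) := ⟨m, hm.isPrime⟩
      have hpA : (hA x).fromSpec p ∈ A x := (hA x).range_fromSpec.le ⟨p, rfl⟩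
      refine hJ₀U _ (hAU x hpA) ((Scheme.IdealSheafData.mem_support_iff_of_mem (U := ⟨A x, hA x⟩) hpA).2 ?_)
      have hp : p ∈ PrimeSpectrum.zeroLocus (J₀.ideal ⟨A x, hA x⟩ : Set Γ(X, A x)) := hle
      rw [← (hA x).fromSpec_preimage_zeroLocus] at hp
      exact hp
    rw [htop]; trivial
  have hgen : ∀ x : V, ∃ s : Finset Γ(X, B x), Ideal.span (s : Set Γ(X, B x)) = J₀.ideal ⟨B x, hB x⟩ := fun x => by
    let W : (V : Scheme.{u}).affineOpens := ⟨V.ι ⁻¹ᵁ B x, (hB x).preimage_of_isOpenImmersion V.ι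
      (by rw [Scheme.Opens.opensRange_ι]; exact hBV x)⟩
    have h1 : J₀.ideal ⟨B x, hB x⟩ = (I.ideal W).comap (V.ι.app (B x)).hom :=
      Scheme.IdealSheafData.ideal_map I V.ι ⟨B x, hB x⟩ W.2
    haveI : IsIso (V.ι.app (B x)) := Scheme.Hom.isIso_app V.ι (B x) (by rw [Scheme.Opens.opensRange_ι]; exact hBV x)
    have h2 : (I.ideal W).comap (V.ι.app (B x)).hom = (I.ideal W).map (inv (V.ι.app (B x))).hom :=
      le_antisymm (fun z hz => by
          have := Ideal.mem_map_of_mem (inv (V.ι.app (B x))).hom (Ideal.mem_comap.1 hz)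
          rwa [← CommRingCat.comp_apply, IsIso.hom_inv_id, CommRingCat.id_apply] at this)
        (Ideal.map_le_iff_le_comap.2 fun z hz => by
          rw [Ideal.mem_comap, Ideal.mem_comap, ← CommRingCat.comp_apply, IsIso.inv_hom_id, CommRingCat.id_apply]
          exact hz)
    rw [h1, h2]
    exact (hI.1 W).map _
  choose s hs using hgen
  let κ : Type u := {x // x ∈ SA} ⊕ Σ x : {x // x ∈ SB}, {g // g ∈ s x.1}
  haveI : Finite κ := by unfold κ; infer_instance
  let W : κ → X.Opens := fun k => k.elim (fun x => A x.1) (fun p => B p.1.1)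
  have hW : ∀ k, IsCompact (W k : Set X) := by
    rintro (x | p)
    exacts [(hA x.1).isCompact, (hB p.1.1).isCompact]
  have hsec : ∀ k, ∃ a : Γ(ClSub.idealMod J₀, W k), M2.idealIncl J₀ a = (match k with
      | .inl x => (1 : Γ(X, A x.1))
      | .inr p => p.2.1) := by
    rintro (x | p)
    · exact (M2.range_idealIncl J₀ ⟨A x.1, hA x.1⟩).ge (hone x.1)
    · exact (M2.range_idealIncl J₀ ⟨B p.1.1, hB p.1.1⟩).ge (hs p.1.1 ▸ Ideal.subset_span p.2.2)
  choose a ha using hsec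
  obtain ⟨q, hq, hqf, hmem⟩ := VA11.exists_ft_sub_mem (M2.isQCoh_idealMod J₀) W hW a
  obtain ⟨J, hJle, hJ⟩ := VA11.exists_idealSheaf_of_sub J₀ q hq
  have hin : ∀ (k : κ) (hk : IsAffineOpen (W k)), M2.idealIncl J₀ (a k) ∈ J.ideal ⟨W k, hk⟩ := fun k hk => by
    obtain ⟨c, hc⟩ := hmem k
    exact (hJ ⟨W k, hk⟩).ge ⟨c, congrArg (M2.idealIncl J₀) hc⟩
  refine ⟨J, ⟨VA11.isFiniteTypeIdeal_of_range J J₀ q hq hqf hJ, Set.disjoint_left.2 fun z hz hzU => ?_⟩, ?_⟩
  · obtain ⟨x, hx, hzx⟩ := Set.mem_iUnion₂.1 (hSA hzU)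
    have h1 : (1 : Γ(X, A x)) ∈ J.ideal ⟨A x, hA x⟩ := by
      have := hin (.inl ⟨x, hx⟩) (hA x)
      rwa [ha] at this
    have h2 := (Scheme.IdealSheafData.mem_support_iff_of_mem (U := ⟨A x, hA x⟩) hzx).1 hz
    rw [Scheme.mem_zeroLocus_iff] at h2
    exact h2 1 h1 (by rw [Scheme.basicOpen_of_isUnit _ isUnit_one]; exact hzx)
  · have heq : ∀ x : {x // x ∈ SB}, J.ideal ⟨B x.1, hB x.1⟩ = J₀.ideal ⟨B x.1, hB x.1⟩ := fun x => by
      refine le_antisymm (hJle _) ?_
      rw [← hs x.1, Ideal.span_le]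
      intro g hg
      have := hin (.inr ⟨x, ⟨g, hg⟩⟩) (hB x.1)
      rwa [ha] at this
    conv_rhs => rw [← comap_map_ι V I]
    refine Scheme.IdealSheafData.ext_of_iSup_eq_top
      (fun x : {x // x ∈ SB} => ⟨V.ι ⁻¹ᵁ B x.1, (hB x.1).preimage_of_isOpenImmersion V.ι
        (by rw [Scheme.Opens.opensRange_ι]; exact hBV x.1)⟩) ?_ fun x => ?_
    · rw [← Scheme.Hom.preimage_iSup, eq_top_iff]
      intro z _
      obtain ⟨x, hx, hzx⟩ := Set.mem_iUnion₂.1 (hSB z.2)
      exact Opens.mem_iSup.2 ⟨⟨x, hx⟩, hzx⟩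
    · rw [EffCartier.comap_ideal J V.ι ⟨B x.1, hB x.1⟩ _ le_rfl,
        EffCartier.comap_ideal (I.map V.ι) V.ι ⟨B x.1, hB x.1⟩ _ le_rfl, heq x]

end Groth.Agent.AdmBlow2
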